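import Cfsg.Agent.Spor.J4ma.L.D0

set_option autoImplicit false
set_option maxRecDepth 100000000
set_option Elab.async false

namespace Cfsg.Agent.Spor.J4ma.L

theorem uok5 : Net.okb 7 un5 = true := by decide +kernel

theorem rel3 : U.rel 7 [11, 1, 3, 5, 7] 0 7 = true := by decide +kernel

theorem rel4 : U.rel 7 [11, 11, 11, 11, 11, 11, 11, 11, 11, 11, 11] 0 7 = true := by decide +kernel

theorem gr6 : sub M5 (U.growI W1 [3, 4, 4, 2, 1, 0, 1, 2, 3, 4, 4, 3, 2, 1, 0, 1] (Nat.shiftLeft 1 0)) = true := by decide +kernel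

theorem cl8 : band (U.closedW W1 M5) (sub (Nat.shiftLeft 1 0) M5) = true := by decide +kernel

theorem sz9 : sizeOk 7 M5 77 = true := by decide +kernel

theorem fx11 : U.closedW W2 (Nat.shiftLeft 1 0) = true := by decide +kernel

theorem gr13 : sub M12 (U.growI W2 [1, 2, 3, 3, 2, 1, 0, 1] (Nat.shiftLeft 1 69)) = true := by decide +kernel

theorem cl15 : band (U.closedW W2 M12) (sub (Nat.shiftLeft 1 69) M12) = true := by decide +kernel

theorem sz16 : sizeOk 7 M12 16 = true := by decide +kernel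

theorem fx19 : U.closedW W18 (Nat.shiftLeft 1 69) = true := by decide +kernel

theorem uok6 : Net.okb 7 un6 = true := by decide +kernel

theorem rel20 : U.rel 7 [13, 5, 1, 9, 5, 1, 5, 9, 1, 5, 9, 9, 9, 9, 9, 5, 9, 5, 1, 1, 5, 9, 5, 9, 1] 0 7 = true := by decide +kernel

theorem uok7 : Net.okb 7 un7 = true := by decide +kernel

theorem rel21 : U.rel 7 [15, 5, 9, 1, 5, 1, 1, 5, 9, 5] 0 7 = true := by decide +kernel

theorem gr23 : sub M22 (U.growI W18 [0, 1, 2, 2, 1, 0, 2, 2, 1, 0, 2, 2, 1] (Nat.shiftLeft 1 3)) = true := by decide +kernel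

theorem cl25 : band (U.closedW W18 M22) (sub (Nat.shiftLeft 1 3) M22) = true := by decide +kernel

theorem sz26 : sizeOk 7 M22 45 = true := by decide +kernel

theorem fx29 : U.closedW W28 (Nat.shiftLeft 1 3) = true := by decide +kernel

theorem gr31 : sub M30 (U.growI W28 [0, 1, 0, 1] (Nat.shiftLeft 1 2)) = true := by decide +kernel

theorem cl33 : band (U.closedW W28 M30) (sub (Nat.shiftLeft 1 2) M30) = true := by decide +kernel

theorem sz34 : sizeOk 7 M30 8 = true := by decide +kernel

end Cfsg.Agent.Spor.J4ma.L
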