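import Cfsg.Agent.Spor.Prim
import Cfsg.Agent.Spor.J4ma.Main
import Cfsg.Agent.Spor.J4ma.L.C0
import Cfsg.Agent.Spor.TT2

set_option autoImplicit false
set_option maxRecDepth 100000000
set_option Elab.async false

namespace Cfsg.Agent.Spor.J4ma.L

theorem hU : U.Ok 7 := U.ok_of 7 (show AllP (fun n => Net.okb 7 n = true) [n0, n1, n2, n3, n4, un5, un6, un7] from AllP.cons ok0 (AllP.cons ok1 (AllP.cons ok2 (AllP.cons ok3 (AllP.cons ok4 (AllP.cons uok5 (AllP.cons uok6 (AllP.cons uok7 (AllP.nil)))))))))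

theorem hfP : ∀ j < 5, U.fP [1, 3, 5, 7, 9] j = fP j := by
  intro j hj
  interval_cases j <;> rfl
theorem eG : gsub 5 fP = U.lsub W1 := (gsub_congr hfP).symm.trans (lsub_eq_gsub U [1, 3, 5, 7, 9])
theorem upz1 : ev (atm 5 fP) [0] = U.τ 1 := pz1
theorem upz3 : ev (atm 5 fP) [2] = U.τ 3 := pz2
theorem upz5 : ev (atm 5 fP) [4] = U.τ 5 := pz3
theorem upz7 : ev (atm 5 fP) [6] = U.τ 7 := pz4
theorem upz9 : ev (atm 5 fP) [8] = U.τ 9 := pz5
theorem eH : wsub 5 fP BW = U.lsub W2 :=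
  lsub_eq_of_all₂ (show List.Forall₂ _ [[0], [2], [4], [8]] [[1], [3], [5], [9]] from List.Forall₂.cons (upz1.trans (one_mul _).symm) (List.Forall₂.cons (upz3.trans (one_mul _).symm) (List.Forall₂.cons (upz5.trans (one_mul _).symm) (List.Forall₂.cons (upz9.trans (one_mul _).symm) (List.Forall₂.nil)))))
theorem vpz1 : PZ U (atm 5 fP) EXU 1 := pz1
theorem vpz2 : PZ U (atm 5 fP) EXU 2 := PZ.of_inv hiv vpz1 (by decide +kernel)
theorem vpz3 : PZ U (atm 5 fP) EXU 3 := pz2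
theorem vpz4 : PZ U (atm 5 fP) EXU 4 := PZ.of_inv hiv vpz3 (by decide +kernel)
theorem vpz5 : PZ U (atm 5 fP) EXU 5 := pz3
theorem vpz6 : PZ U (atm 5 fP) EXU 6 := PZ.of_inv hiv vpz5 (by decide +kernel)
theorem vpz7 : PZ U (atm 5 fP) EXU 7 := pz4
theorem vpz8 : PZ U (atm 5 fP) EXU 8 := PZ.of_inv hiv vpz7 (by decide +kernel)
theorem vpz9 : PZ U (atm 5 fP) EXU 9 := pz5
theorem vpz10 : PZ U (atm 5 fP) EXU 10 := PZ.of_inv hiv vpz9 (by decide +kernel)
theorem vpz11 : PZ U (atm 5 fP) EXU 11 := PZ.of_def hiv (d := [1, 3, 5, 7]) (AllP.cons vpz1 (AllP.cons vpz3 (AllP.cons vpz5 (AllP.cons vpz7 (AllP.nil))))) (hU.one rel3) (by decide +kernel)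
theorem vpz12 : PZ U (atm 5 fP) EXU 12 := PZ.of_inv hiv vpz11 (by decide +kernel)
theorem hPZU : AllP (PZ U (atm 5 fP) EXU) LU :=
  show AllP (PZ U (atm 5 fP) EXU) [1, 2, 3, 4, 5, 6, 7, 8, 9, 10, 11, 12] from AllP.cons vpz1 (AllP.cons vpz2 (AllP.cons vpz3 (AllP.cons vpz4 (AllP.cons vpz5 (AllP.cons vpz6 (AllP.cons vpz7 (AllP.cons vpz8 (AllP.cons vpz9 (AllP.cons vpz10 (AllP.cons vpz11 (AllP.cons vpz12 (AllP.nil))))))))))))
theorem hX11 : ∀ l ∈ X11, ev (atm 5 fP) l = 1 :=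
  relAll_sound hiv (W := [[11, 11, 11, 11, 11, 11, 11, 11, 11, 11, 11]]) (rules := [⟨[11, 11, 11, 11, 11, 11, 11, 11, 11, 11, 11], [], 0, true⟩]) hPZU (AllP.cons (hU.one rel4) (AllP.nil)) (by decide +kernel)
theorem reach7 : Reach (U.lsub W1) 0 M5 := (Reach.grow hU (Reach.base _ 0) gr6)
theorem orb10 : (orbS (U.lsub W1) 0).ncard = 77 := reach7.ncard hU cl8 sz9
theorem orb10e : orbS (U.lsub W1) 0 = {c | Nat.testBit M5 c = true} := reach7.orb hU cl8
theorem reach14 : Reach (U.lsub W2) 69 M12 := (Reach.grow hU (Reach.base _ 69) gr13)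
theorem orb17 : (orbS (U.lsub W2) 69).ncard = 16 := reach14.ncard hU cl15 sz16
theorem orb17e : orbS (U.lsub W2) 69 = {c | Nat.testBit M12 c = true} := reach14.orb hU cl15
theorem reach24 : Reach (U.lsub W18) 3 M22 := (Reach.grow hU (Reach.base _ 3) gr23)
theorem orb27 : (orbS (U.lsub W18) 3).ncard = 45 := reach24.ncard hU cl25 sz26
theorem orb27e : orbS (U.lsub W18) 3 = {c | Nat.testBit M22 c = true} := reach24.orb hU cl25
theorem reach32 : Reach (U.lsub W28) 2 M30 := (Reach.grow hU (Reach.base _ 2) gr31)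
theorem orb35 : (orbS (U.lsub W28) 2).ncard = 8 := reach32.ncard hU cl33 sz34
theorem orb35e : orbS (U.lsub W28) 2 = {c | Nat.testBit M30 c = true} := reach32.orb hU cl33
theorem lb36 : 8 ∣ Nat.card (U.lsub W28) := dvd_card_orb orb35
theorem lb37 : 360 ∣ Nat.card (U.lsub W18) :=
  dvd_card_step (s := 45) (M := 8) (B := U.lsub W28) (Tab.lsub_le_all (AllP.cons (mem_of_rel (hU.one rel20) (U.mem_letters (by decide))) (AllP.cons (mem_of_rel (hU.one rel21) (U.mem_letters (by decide))) (AllP.nil)))) (hU.fixes fx29) orb27 lb36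
theorem lb38 : 5760 ∣ Nat.card (U.lsub W2) :=
  dvd_card_step (s := 16) (M := 360) (B := U.lsub W18) (U.lsub_sub (by decide)) (hU.fixes fx19) orb17 lb37
theorem lb : 443520 ∣ Nat.card (U.lsub W1) :=
  dvd_card_step (s := 77) (M := 5760) (B := U.lsub W2) (U.lsub_sub (by decide)) (hU.fixes fx11) orb10 lb38

end Cfsg.Agent.Spor.J4ma.L
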