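import Cfsg.Agent.Spor.Chk2
import Cfsg.Agent.Spor.J4ma.D0

set_option autoImplicit false
set_option maxRecDepth 100000000
set_option Elab.async false
noncomputable section

namespace Cfsg.Agent.Spor.J4ma.L

def W1 : List (List Nat) := [[1], [3], [5], [7], [9]]

def W2 : List (List Nat) := [[1], [3], [5], [9]]

def um5_0 : Nat := nat_lit 0x29d5d853c0f490b4
def um5_1 : Nat := nat_lit 0x21010c2300000000022139ac
def um5_2 : Nat := nat_lit 0x1c2400005241000039a000002d21
def um5_3 : Nat := nat_lit 0x130051008900ca000c0001002d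
def um5_4 : Nat := nat_lit 0x100000404020804030b010002000200
def um5_5 : Nat := nat_lit 0x1200000211100000220030000020020
def um5_6 : Nat := nat_lit 0x4100104100450150040011000440
def um5_7 : Nat := nat_lit 0x1200001000100100000001000210
def um5_8 : Nat := nat_lit 0x100080007020004010101000002060d
def um5_9 : Nat := nat_lit 0x10001300c000400049000800030029
def um5_10 : Nat := nat_lit 0x1c3400005385000039a000000e2b
def um5_11 : Nat := nat_lit 0x2151046000000000122138ac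
def um5_12 : Nat := nat_lit 0x29d5d853c0f48b9c
def un5 : Net := Net.cons 64 um5_0 (Net.cons 32 um5_1 (Net.cons 16 um5_2 (Net.cons 8 um5_3 (Net.cons 4 um5_4 (Net.cons 2 um5_5 (Net.cons 1 um5_6 (Net.cons 2 um5_7 (Net.cons 4 um5_8 (Net.cons 8 um5_9 (Net.cons 16 um5_10 (Net.cons 32 um5_11 (Net.cons 64 um5_12 (Net.nil)))))))))))))

def EXU : List (List Nat) := [[], [0], [0], [2], [2], [4], [4], [6], [6], [8], [9], [0, 2, 4, 6], [6, 4, 2, 0]]
def LU : List Nat := [1, 2, 3, 4, 5, 6, 7, 8, 9, 10, 11, 12]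

def X11 : List (List Nat) := [[0, 2, 4, 6, 0, 2, 4, 6, 0, 2, 4, 6, 0, 2, 4, 6, 0, 2, 4, 6, 0, 2, 4, 6, 0, 2, 4, 6, 0, 2, 4, 6, 0, 2, 4, 6, 0, 2, 4, 6, 0, 2, 4, 6]]

def M5 : Nat := nat_lit 0x1fffffffffffffffffff

def M12 : Nat := nat_lit 0x1ff54294000000000000

def W18 : List (List Nat) := [[1], [5], [9]]

def um6_0 : Nat := nat_lit 0x420000000000000b
def um6_1 : Nat := nat_lit 0x81000000000c480098a
def um6_2 : Nat := nat_lit 0x810000000000000c54a00002b82
def um6_3 : Nat := nat_lit 0x20000000000120060007c00030050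
def um6_4 : Nat := nat_lit 0x4010000000000000203050c08080005
def um6_5 : Nat := nat_lit 0x1111210300001322032
def um6_6 : Nat := nat_lit 0x4010000000000414040014100510450
def um6_7 : Nat := nat_lit 0x111010001200010000
def um6_8 : Nat := nat_lit 0x4010000000000000201040500080005
def um6_9 : Nat := nat_lit 0x20000000000120020002a00060000
def um6_10 : Nat := nat_lit 0x810000000000000840200002a82
def um6_11 : Nat := nat_lit 0x81000000000c1800a0a
def um6_12 : Nat := nat_lit 0x420000000000000b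
def un6 : Net := Net.cons 64 um6_0 (Net.cons 32 um6_1 (Net.cons 16 um6_2 (Net.cons 8 um6_3 (Net.cons 4 um6_4 (Net.cons 2 um6_5 (Net.cons 1 um6_6 (Net.cons 2 um6_7 (Net.cons 4 um6_8 (Net.cons 8 um6_9 (Net.cons 16 um6_10 (Net.cons 32 um6_11 (Net.cons 64 um6_12 (Net.nil)))))))))))))

def um7_0 : Nat := nat_lit 0x14000000000003
def um7_1 : Nat := nat_lit 0x50000000000c152a641
def um7_2 : Nat := nat_lit 0x1400000000000006e1000009a3
def um7_3 : Nat := nat_lit 0x40000000000460043002a004b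
def um7_4 : Nat := nat_lit 0x100000001000d0a0f080c0205
def um7_5 : Nat := nat_lit 0x101000002010111113321203133
def um7_6 : Nat := nat_lit 0x1400400014040100
def um7_7 : Nat := nat_lit 0x2100100011010100
def um7_8 : Nat := nat_lit 0x1000000010000080009040200
def um7_9 : Nat := nat_lit 0x4000000000044004300c1004b
def um7_10 : Nat := nat_lit 0x1400000000000006a1000009a3
def um7_11 : Nat := nat_lit 0x500000000003152a640
def um7_12 : Nat := nat_lit 0x14000000000003
def un7 : Net := Net.cons 64 um7_0 (Net.cons 32 um7_1 (Net.cons 16 um7_2 (Net.cons 8 um7_3 (Net.cons 4 um7_4 (Net.cons 2 um7_5 (Net.cons 1 um7_6 (Net.cons 2 um7_7 (Net.cons 4 um7_8 (Net.cons 8 um7_9 (Net.cons 16 um7_10 (Net.cons 32 um7_11 (Net.cons 64 um7_12 (Net.nil)))))))))))))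

def M22 : Nat := nat_lit 0xabd6bff9c1fff47c8

def W28 : List (List Nat) := [[13], [15]]

def M30 : Nat := nat_lit 0x4140001834

def U : Tab := ⟨[n0, n1, n2, n3, n4, un5, un6, un7], [⟨0, false, 0, 0, []⟩, ⟨0, false, 0, 0, []⟩, ⟨0, true, 0, 0, []⟩, ⟨1, false, 0, 0, []⟩, ⟨1, true, 0, 0, []⟩, ⟨2, false, 0, 0, []⟩, ⟨2, true, 0, 0, []⟩, ⟨3, false, 0, 0, []⟩, ⟨3, true, 0, 0, []⟩, ⟨4, false, 0, 0, []⟩, ⟨4, true, 0, 0, []⟩, ⟨5, false, 0, 0, []⟩, ⟨5, true, 0, 0, []⟩, ⟨6, false, 0, 0, []⟩, ⟨6, true, 0, 0, []⟩, ⟨7, false, 0, 0, []⟩, ⟨7, true, 0, 0, []⟩]⟩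

end Cfsg.Agent.Spor.J4ma.L
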